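import Mathlib.GroupTheory.SpecificGroups.Alternating.Simple
import Mathlib.GroupTheory.GroupAction.MultipleTransitivity
import Mathlib.GroupTheory.Perm.Cycle.Type
import Mathlib.GroupTheory.IsSubnormal
import Cfsg.Prelude.Def_Solvable

/-!
Three-cycles in the symmetric group of degree eight.
-/

set_option autoImplicit false
set_option linter.style.haveILetI false

namespace CfsgLib.ThreeCycleEight

open Equiv Equiv.Perm
open scoped Pointwise

variable {α : Type*} [Fintype α] [DecidableEq α]

theorem exists_conj_map (u v : Fin 3 → α) (hu : Function.Injective u) (hv : Function.Injective v) :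
    ∃ π : Perm α, ∀ i, π (u i) = v i := by
  haveI := Equiv.Perm.isMultiplyPretransitive α 3
  obtain ⟨π, hπ⟩ := MulAction.exists_smul_eq (Perm α) (⟨u, hu⟩ : Fin 3 ↪ α) ⟨v, hv⟩
  exact ⟨π, fun i => congrArg (fun e : Fin 3 ↪ α => e i) hπ⟩

/-- Every permutation of at least eight points has a conjugate which commutes with a given
three-cycle or moves its support off itself. -/
theorem exists_good_conj (h8 : 8 ≤ Fintype.card α) (σ : Perm α) (hσ : σ.IsThreeCycle) (c : Perm α) :
    ∃ g : Perm α, IsConj c g ∧ (Commute g σ ∨ ∀ y ∈ σ.support, g y ∉ σ.support) := by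
  obtain ⟨a, ha⟩ : ∃ a, a ∈ σ.support := Finset.card_pos.1 (by rw [hσ.card_support]; norm_num)
  have ha1 : σ a ≠ a := Equiv.Perm.mem_support.1 ha
  have ha2 : σ (σ a) ≠ a := by
    intro h
    have h3 : (σ ^ 3) a = a := by rw [← hσ.orderOf, pow_orderOf_eq_one]; rfl
    rw [show (3 : ℕ) = 2 + 1 from rfl, pow_succ', Perm.mul_apply, sq, Perm.mul_apply, h] at h3
    exact ha1 h3
  set v : Fin 3 → α := ![a, σ a, σ (σ a)] with hv
  have hvinj : Function.Injective v := by
    intro i j hij
    fin_cases i <;> fin_cases j <;> simp_all [eq_comm]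
  have hσ3 : σ (σ (σ a)) = a := by
    have h3 : (σ ^ 3) a = a := by rw [← hσ.orderOf, pow_orderOf_eq_one]; rfl
    simpa [pow_succ, Perm.mul_apply] using h3
  have hsupp : ∀ y, y ∈ σ.support → ∃ i, v i = y := by
    have hS : Finset.image v Finset.univ = σ.support := by
      refine Finset.eq_of_subset_of_card_le ?_ ?_
      · intro y hy
        obtain ⟨i, -, rfl⟩ := Finset.mem_image.1 hy
        fin_cases i
        · simpa [hv] using ha
        · simpa [hv] using Equiv.Perm.apply_mem_support.2 ha
        · simpa [hv] using Equiv.Perm.apply_mem_support.2 (Equiv.Perm.apply_mem_support.2 ha)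
      · rw [hσ.card_support, Finset.card_image_of_injective _ hvinj, Finset.card_univ, Fintype.card_fin]
    intro y hy
    rw [← hS, Finset.mem_image] at hy
    obtain ⟨i, -, hi⟩ := hy
    exact ⟨i, hi⟩
  -- a suitable triple for c, moved onto the support of σ
  suffices h : ∃ u : Fin 3 → α, Function.Injective u ∧
      ((∀ i, c (u i) = u i) ∨ (∀ i, c (u i) = u (i + 1)) ∨ ∀ i j, c (u i) ≠ u j) by
    obtain ⟨u, hu, hcase⟩ := h
    obtain ⟨π, hπ⟩ := exists_conj_map u v hu hvinj
    refine ⟨π * c * π⁻¹, isConj_iff.2 ⟨π, rfl⟩, ?_⟩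
    have hg : ∀ i, (π * c * π⁻¹) (v i) = π (c (u i)) := fun i => by
      rw [← hπ i]; simp
    have hoff : (∀ i, ∃ j, c (u i) = u j) → ∀ y, σ y = y →
        σ ((π * c * π⁻¹) y) = (π * c * π⁻¹) y := by
      intro hall y hy
      by_contra hne
      obtain ⟨k, hk⟩ := hsupp _ (Equiv.Perm.mem_support.2 hne)
      choose j hj using hall
      have hjs : Function.Surjective j := by
        refine Finite.injective_iff_surjective.1 fun p q hpq => hu (c.injective ?_)
        rw [hj, hj, hpq]
      obtain ⟨i, rfl⟩ := hjs k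
      have he : (π * c * π⁻¹) (v i) = (π * c * π⁻¹) y := by
        rw [hg, hj, hπ]; exact hk
      have hyv := (π * c * π⁻¹).injective he
      rw [← hyv] at hy
      fin_cases i <;> simp [hv, hσ3] at hy
      · exact ha1 hy
      · exact ha1 hy
      · exact ha2 hy.symm
    generalize π * c * π⁻¹ = g at hg hoff ⊢
    rcases hcase with hfix | hcyc | hmove
    · left
      refine Equiv.ext fun y => ?_
      rw [Perm.mul_apply, Perm.mul_apply]
      by_cases hy : σ y = y
      · rw [hy, hoff (fun i => ⟨i, hfix i⟩) y hy]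
      · obtain ⟨i, rfl⟩ := hsupp y (Equiv.Perm.mem_support.2 hy)
        obtain ⟨j, hj⟩ := hsupp _ (Equiv.Perm.apply_mem_support.2 (Equiv.Perm.mem_support.2 hy))
        rw [← hj, hg, hg, hfix, hfix, hπ, hπ, hj]
    · left
      have hnext : ∀ i, σ (v i) = v (i + 1) := by
        intro i
        fin_cases i <;> simp [hv, hσ3]
      refine Equiv.ext fun y => ?_
      rw [Perm.mul_apply, Perm.mul_apply]
      by_cases hy : σ y = y
      · rw [hy, hoff (fun i => ⟨i + 1, hcyc i⟩) y hy]
      · obtain ⟨i, rfl⟩ := hsupp y (Equiv.Perm.mem_support.2 hy)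
        rw [hnext, hg, hg, hcyc, hcyc, hπ, hπ, hnext]
    · right
      intro y hy hgy
      obtain ⟨i, rfl⟩ := hsupp y hy
      obtain ⟨j, hj⟩ := hsupp _ hgy
      rw [hg, ← hπ j] at hj
      exact hmove i j (π.injective hj).symm
  -- the combinatorial choice
  by_cases h6 : c.support.card < 6
  · have h3 : 3 ≤ c.supportᶜ.card := by rw [Finset.card_compl]; omega
    obtain ⟨e⟩ : Nonempty (Fin 3 ↪ (c.supportᶜ : Finset α)) :=
      Function.Embedding.nonempty_of_card_le (by rwa [Fintype.card_fin, Fintype.card_coe])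
    refine ⟨fun i => (e i : α), fun i j h => e.injective (Subtype.ext h), Or.inl fun i => ?_⟩
    exact Equiv.Perm.notMem_support.1 (Finset.mem_compl.1 (e i).2)
  push Not at h6
  obtain ⟨x, hx⟩ : ∃ x, x ∈ c.support := Finset.card_pos.1 (by omega)
  by_cases hper : c (c (c x)) = x
  · have hx1 : c x ≠ x := Equiv.Perm.mem_support.1 hx
    have hx2 : c (c x) ≠ x := fun e => hx1 (by rw [e] at hper; exact hper)
    refine ⟨![x, c x, c (c x)], fun i j hij => ?_, Or.inr (Or.inl fun i => ?_)⟩
    · fin_cases i <;> fin_cases j <;> simp at hij ⊢ <;>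
        first
          | exact absurd hij hx1 | exact absurd hij.symm hx1 | exact absurd hij hx2 | exact absurd hij.symm hx2
    · fin_cases i <;> simp [hper]
  set F : α → Finset α := fun z => {z, c z, c.symm z} with hF
  have hFc : ∀ z, (F z).card ≤ 3 := fun z => Finset.card_le_three
  -- a second point with few forbidden neighbours
  obtain ⟨z, hz, hzF, hcard⟩ : ∃ z ∈ c.support, z ∉ F x ∧ (F x ∪ F z).card ≤ 5 := by
    have hx1 : c x ≠ x := Equiv.Perm.mem_support.1 hx
    by_cases h2 : c (c x) = x
    · have hsub : F x = {x, c x} := by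
        have : c.symm x = c x := by rw [Equiv.symm_apply_eq, h2]
        simp [hF, this]
      obtain ⟨z, hz, hzF⟩ := Finset.exists_mem_notMem_of_card_lt_card
        (show (F x).card < c.support.card from lt_of_le_of_lt (hFc x) (by omega))
      refine ⟨z, hz, hzF, (Finset.card_union_le _ _).trans ?_⟩
      have h1 := hFc z
      have h2 : (F x).card ≤ 2 := by rw [hsub]; exact Finset.card_le_two
      omega
    · refine ⟨c (c x), Equiv.Perm.apply_mem_support.2 (Equiv.Perm.apply_mem_support.2 hx), ?_, ?_⟩
      · simp only [hF, Finset.mem_insert, Finset.mem_singleton, not_or]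
        exact ⟨h2, fun e => hx1 (c.injective e), fun e => hper (by rw [Equiv.eq_symm_apply] at e; exact e)⟩
      · have hsub : F x ∪ F (c (c x)) ⊆ {x, c.symm x, c x, c (c x), c (c (c x))} := by
          intro w hw
          simp only [hF, Finset.mem_union, Finset.mem_insert, Finset.mem_singleton, Equiv.symm_apply_apply] at hw ⊢
          tauto
        exact (Finset.card_le_card hsub).trans Finset.card_le_five
  obtain ⟨w, hw, hwF⟩ := Finset.exists_mem_notMem_of_card_lt_card
    (show (F x ∪ F z).card < c.support.card by omega)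
  simp only [hF, Finset.mem_union, Finset.mem_insert, Finset.mem_singleton, not_or,
    Equiv.eq_symm_apply] at hzF hwF
  obtain ⟨hzx, hzcx, hczx⟩ := hzF
  obtain ⟨⟨hwx, hwcx, hcwx⟩, hwz, hwcz, hcwz⟩ := hwF
  refine ⟨![x, z, w], fun i j hij => ?_, Or.inr (Or.inr fun i j => ?_)⟩
  · fin_cases i <;> fin_cases j <;> simp at hij ⊢ <;>
      first
        | exact hzx hij | exact hzx hij.symm | exact hwx hij | exact hwx hij.symm
        | exact hwz hij | exact hwz hij.symm
  · have := Equiv.Perm.mem_support.1 hx
    have := Equiv.Perm.mem_support.1 hz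
    have := Equiv.Perm.mem_support.1 hw
    fin_cases i <;> fin_cases j <;> simp <;> intro e <;>
      first
        | exact absurd e (by assumption) | exact absurd e.symm (by assumption)

theorem subnormal_of_good {σ g : Perm α} (h : Commute g σ ∨ ∀ y ∈ σ.support, g y ∉ σ.support) :
    ((Subgroup.zpowers σ).subgroupOf (Subgroup.zpowers σ ⊔ MulAut.conj g • Subgroup.zpowers σ)).IsSubnormal := by
  have hcomm : Commute σ (g * σ * g⁻¹) := by
    rcases h with h | h
    · rw [h.eq, mul_inv_cancel_right]
    · refine Equiv.Perm.Disjoint.commute ?_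
      rw [Equiv.Perm.disjoint_iff_disjoint_support, Equiv.Perm.support_conj, Finset.disjoint_left]
      intro y hy hy'
      obtain ⟨u, hu, rfl⟩ := Finset.mem_map.1 hy'
      exact h u hu hy
  refine Subgroup.Normal.isSubnormal (Subgroup.normal_subgroupOf_of_le_normalizer ?_)
  refine sup_le Subgroup.le_normalizer ?_
  have hz : MulAut.conj g • Subgroup.zpowers σ = Subgroup.zpowers (g * σ * g⁻¹) := by
    rw [show MulAut.conj g • Subgroup.zpowers σ = (Subgroup.zpowers σ).map (MulAut.conj g).toMonoidHom from rfl,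
      MonoidHom.map_zpowers]
    rfl
  rw [hz, Subgroup.zpowers_le]
  refine Subgroup.centralizer_le_normalizer _ (Subgroup.mem_centralizer_iff.2 fun y hy => ?_)
  obtain ⟨i, rfl⟩ := hy
  exact (hcomm.zpow_left i).eq

theorem pCore_three_eq_bot : Cfsg.pCore 3 (Perm (Fin 8)) = ⊥ := by
  refine le_bot_iff.1 (sSup_le fun N hN => ?_)
  haveI := hN.1
  haveI : Fact (Nat.Prime 3) := ⟨Nat.prime_three⟩
  rw [le_bot_iff]
  by_contra hne
  have hle := Equiv.Perm.alternatingGroup_le_of_normal (α := Fin 8) (by simp)
    ((Subgroup.nontrivial_iff_ne_bot N).2 hne)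
  obtain ⟨k, hk⟩ := IsPGroup.iff_card.1 hN.2
  have h2 : 2 ∣ Nat.card N := by
    refine dvd_trans ?_ (Subgroup.card_dvd_of_le hle)
    rw [nat_card_alternatingGroup, Nat.card_fin]
    exact ⟨10080, by simp [Nat.factorial]⟩
  rw [hk] at h2
  exact absurd (Nat.prime_two.dvd_of_dvd_pow h2) (by norm_num)

end CfsgLib.ThreeCycleEight
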